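import Groth.Agent.WeilLib.Trdeg
import Groth.Agent.DimFormula.Field
import Mathlib

/-!
# Dimension of the zero locus of a function
-/

universe u

set_option autoImplicit false
set_option backward.isDefEq.respectTransparency false
set_option linter.style.haveILetI false

open CategoryTheory AlgebraicGeometry Topology

noncomputable section

namespace Groth.Agent.DimZeroLocus

open Groth.Agent.WeilLib

variable {k : Type u} [Field k] {X : Scheme.{u}} (f : X ⟶ Spec (CommRingCat.of k))

/-- The coordinate ring of the closure of a point in an affine chart has dimension `trdeg κ(x)`. -/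
theorem exists_trd_eq_dim [LocallyOfFiniteType f] (x : X) : ∀ (W : X.Opens) (hW : IsAffineOpen W)
    (hxW : x ∈ W), ∃ s : ℕ, trd f x = s ∧
      ringKrullDim (Γ(X, W) ⧸ (hW.primeIdealOf ⟨x, hxW⟩).asIdeal) = s := by
  intro W hW hxW
  letI := (secStr f W).toAlgebra
  haveI : Algebra.FiniteType k Γ(X, W) := finiteType_secStr f hW
  letI := (kStr f x).toAlgebra
  let q := (hW.primeIdealOf ⟨x, hxW⟩).asIdeal
  let ι : Γ(X, W) →ₐ[k] X.residueField x :=
    { (X.evaluation W x hxW).hom with
      commutes' := RingHom.congr_fun (evaluation_comp_secStr f hxW) }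
  have hker : RingHom.ker ι = q := by
    let := X.presheaf.algebra_section_stalk ⟨x, hxW⟩
    have := hW.isLocalization_stalk ⟨x, hxW⟩
    show RingHom.ker ((IsLocalRing.residue (X.presheaf.stalk x)).comp
      (algebraMap Γ(X, W) (X.presheaf.stalk x))) = _
    rw [← RingHom.comap_ker, IsLocalRing.ker_residue]
    exact IsLocalization.AtPrime.under_maximalIdeal (X.presheaf.stalk x) _
  let ψ : (Γ(X, W) ⧸ q) →ₐ[k] X.residueField x := Ideal.Quotient.liftₐ q ι fun a ha ↦ by
    rwa [← hker, RingHom.mem_ker] at ha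
  haveI : Algebra.FiniteType k (Γ(X, W) ⧸ q) :=
    .trans (R := k) (S := Γ(X, W)) inferInstance inferInstance
  refine exists_dim_eq_trdeg ψ ?_ ?_
  · rw [injective_iff_map_eq_zero]
    intro a ha
    obtain ⟨a, rfl⟩ := Ideal.Quotient.mk_surjective a
    rw [Ideal.Quotient.eq_zero_iff_mem]
    exact hker.le ha
  · intro z
    obtain ⟨z, rfl⟩ := IsLocalRing.residue_surjective z
    let := X.presheaf.algebra_section_stalk ⟨x, hxW⟩
    have := hW.isLocalization_stalk ⟨x, hxW⟩
    obtain ⟨⟨b, d⟩, hbd⟩ := IsLocalization.surj (hW.primeIdealOf ⟨x, hxW⟩).asIdeal.primeCompl z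
    refine ⟨Ideal.Quotient.mk q b, Ideal.Quotient.mk q d, fun h ↦ d.2 ?_, ?_⟩
    · exact hker.le (show ι d = 0 from h)
    · show IsLocalRing.residue _ z * IsLocalRing.residue _
          (algebraMap Γ(X, W) (X.presheaf.stalk x) d) =
        IsLocalRing.residue _ (algebraMap Γ(X, W) (X.presheaf.stalk x) b)
      rw [← map_mul, hbd]

/-- Dimension of a sober space through the specialization order. -/
theorem topologicalKrullDim_eq (T : Type u) [TopologicalSpace T] [QuasiSober T] [T0Space T] :
    topologicalKrullDim T = @Order.krullDim T (specializationOrder T).toPreorder :=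
  @Order.krullDim_eq_of_orderIso _ _ _ (specializationOrder T).toPreorder irreducibleSetEquivPoints

/-- A generisation of a point of a nowhere dense zero locus outside of it. -/
theorem exists_generization_notMem (s : Γ(X, ⊤)) (hY : interior (X.zeroLocus (U := ⊤) {s}) = ∅)
    {y : X} : ∃ η : X, η ⤳ y ∧ η ∉ X.zeroLocus (U := ⊤) {s} := by
  obtain ⟨W, hW, hyW, -⟩ := exists_isAffineOpen_mem_and_subset (X := X) (x := y) (U := ⊤) trivial
  let g : Γ(X, W) := (X.presheaf.map (homOfLE (le_top : W ≤ ⊤)).op).hom s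
  obtain ⟨P, hP, hPle⟩ := Ideal.exists_minimalPrimes_le
    (show (⊥ : Ideal Γ(X, W)) ≤ (hW.primeIdealOf ⟨y, hyW⟩).asIdeal from bot_le)
  haveI := hP.1.1
  let P' : PrimeSpectrum Γ(X, W) := ⟨P, inferInstance⟩
  refine ⟨hW.fromSpec P', ?_, fun hmem => ?_⟩
  · have h := ((PrimeSpectrum.le_iff_specializes P' (hW.primeIdealOf ⟨y, hyW⟩)).mp hPle).map
      hW.fromSpec.continuous
    rwa [hW.fromSpec_primeIdealOf] at h
  · have hg : ∀ q : PrimeSpectrum Γ(X, W), hW.fromSpec q ∈ X.zeroLocus (U := ⊤) {s} ↔ g ∈ q.asIdeal := by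
      intro q
      have hq : hW.fromSpec q ∈ W := by
        rw [← SetLike.mem_coe, ← hW.range_fromSpec]; exact ⟨q, rfl⟩
      rw [Scheme.mem_zeroLocus_iff]
      have e : hW.fromSpec q ∈ X.basicOpen s ↔ hW.fromSpec q ∈ X.basicOpen g := by
        rw [show X.basicOpen g = W ⊓ X.basicOpen s from X.basicOpen_res s _]
        exact ⟨fun h => ⟨hq, h⟩, fun h => h.2⟩
      have e2 : hW.fromSpec q ∈ X.basicOpen g ↔ g ∉ q.asIdeal := by
        rw [show hW.fromSpec q ∈ X.basicOpen g ↔ q ∈ hW.fromSpec ⁻¹ᵁ X.basicOpen g from Iff.rfl,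
          hW.fromSpec_preimage_basicOpen]
        exact PrimeSpectrum.mem_basicOpen _ _
      simp only [Set.mem_singleton_iff, forall_eq, e, e2, not_not]
    obtain ⟨c, hc, n, hn⟩ : ∃ c ∉ P, ∃ n : ℕ, c * g ^ n = 0 := by
      haveI : Ring.KrullDimLE 0 (Localization.AtPrime P) :=
        Ring.KrullDimLE.of_isLocalization _ hP _
      have hm : algebraMap Γ(X, W) (Localization.AtPrime P) g ∈
          IsLocalRing.maximalIdeal (Localization.AtPrime P) :=
        (IsLocalization.AtPrime.to_map_mem_maximal_iff _ P g).mpr ((hg P').mp hmem)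
      obtain ⟨n, hn⟩ := (Ring.KrullDimLE.isNilpotent_iff_mem_maximalIdeal).mpr hm
      rw [← map_pow] at hn
      obtain ⟨⟨c, hc⟩, hcn⟩ := (IsLocalization.map_eq_zero_iff P.primeCompl _ _).mp hn
      exact ⟨c, hc, n, hcn⟩
    have hsub : (X.basicOpen c : Set X) ⊆ X.zeroLocus (U := ⊤) {s} := by
      intro x hx
      have hxW : x ∈ W := X.basicOpen_le c hx
      obtain ⟨q, rfl⟩ : x ∈ Set.range hW.fromSpec := by rw [hW.range_fromSpec]; exact hxW
      have hcq : c ∉ q.asIdeal := by
        have : q ∈ hW.fromSpec ⁻¹ᵁ X.basicOpen c := hx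
        rw [hW.fromSpec_preimage_basicOpen] at this
        exact this
      refine (hg q).mpr (q.2.mem_of_pow_mem n ?_)
      exact (q.2.mem_or_mem (hn ▸ q.asIdeal.zero_mem : c * g ^ n ∈ q.asIdeal)).resolve_left hcq
    have hP'c : hW.fromSpec P' ∈ X.basicOpen c := by
      show P' ∈ hW.fromSpec ⁻¹ᵁ X.basicOpen c
      rw [hW.fromSpec_preimage_basicOpen]
      exact hc
    have := interior_maximal hsub (X.basicOpen c).2 hP'c
    rw [hY] at this
    exact this.elim

theorem add_one_le (s : Γ(X, ⊤)) (hY : interior (X.zeroLocus (U := ⊤) {s}) = ∅) :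
    topologicalKrullDim (X.zeroLocus (U := ⊤) {s}) + 1 ≤ topologicalKrullDim X := by
  have hcl : IsClosed (X.zeroLocus (U := ⊤) {s}) := X.zeroLocus_isClosed _
  let Y := X.zeroLocus (U := ⊤) {s}
  haveI : QuasiSober Y := hcl.isClosedEmbedding_subtypeVal.quasiSober
  rw [topologicalKrullDim_eq ↥Y, topologicalKrullDim_eq X]
  letI := specializationOrder X
  letI := specializationOrder Y
  letI : Preorder Y := (specializationOrder Y).toPreorder
  letI : LE Y := (specializationOrder Y).toLE
  letI : LT Y := (specializationOrder Y).toLT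
  rcases isEmpty_or_nonempty Y with h | h
  · rw [Order.krullDim_eq_bot, WithBot.bot_add]
    exact bot_le
  · rw [Order.krullDim_eq_iSup_length, ← WithBot.coe_one, ← WithBot.coe_add, ENat.iSup_add]
    have hbound : ∀ l : LTSeries Y, ((l.length : ℕ∞) + 1 : ℕ∞) ≤ (Order.krullDim X : WithBot ℕ∞) := by
      intro l
      obtain ⟨η, hη, hηY⟩ := exists_generization_notMem s hY (y := (l.last : X))
      let l' : LTSeries X := l.map Subtype.val fun a b hab => by
        refine lt_of_le_of_ne ((show b ⤳ a from hab.le).map continuous_subtype_val) fun e => ?_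
        exact hab.ne (Subtype.ext e)
      have hlt : l'.last < η := lt_of_le_of_ne (show η ⤳ (l.last : X) from hη)
        fun e => hηY (e ▸ l.last.2)
      have := Order.LTSeries.length_le_krullDim (l'.snoc η hlt)
      simpa [l'] using this
    obtain ⟨d, hd⟩ := WithBot.ne_bot_iff_exists.mp
      (ne_bot_of_le_ne_bot WithBot.coe_ne_bot (hbound (RelSeries.singleton _ (Classical.arbitrary Y))))
    rw [← hd]
    refine WithBot.coe_le_coe.mpr (iSup_le fun l => ?_)
    have := hbound l
    rw [← hd] at this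
    exact WithBot.coe_le_coe.mp this

theorem le_add_one [LocallyOfFiniteType f] (s : Γ(X, ⊤))
    (hmax : ∃ Z ∈ irreducibleComponents (X : Type u), topologicalKrullDim Z = topologicalKrullDim X)
    (hmeet : ∀ Z ∈ irreducibleComponents (X : Type u), topologicalKrullDim Z = topologicalKrullDim X →
      (Z ∩ X.zeroLocus (U := ⊤) {s}).Nonempty) :
    topologicalKrullDim X ≤ topologicalKrullDim (X.zeroLocus (U := ⊤) {s}) + 1 := by
  obtain ⟨C, hC, hdimC⟩ := hmax
  obtain ⟨z, hzC, hzY⟩ := hmeet C hC hdimC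
  obtain ⟨η, hη⟩ := QuasiSober.sober hC.1 (isClosed_of_mem_irreducibleComponents C hC)
  obtain ⟨W, hW, hzW, -⟩ := exists_isAffineOpen_mem_and_subset (X := X) (x := z) (U := ⊤) trivial
  have hηz : η ⤳ z := hη.specializes hzC
  have hηW : η ∈ W := hηz.mem_open W.2 hzW
  obtain ⟨n, hn, hdimD⟩ := exists_trd_eq_dim f η W hW hηW
  have hnX : topologicalKrullDim X = n := by
    obtain ⟨hp, hh⟩ := exists_pdim_eq_trd f η
    have : WeilCoh.pdim X η = n := by exact_mod_cast hp.symm.trans hn
    rw [← hdimC, ← hη.def, BMCoh.topologicalKrullDim_closure_singleton, hh, this]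
    rfl
  let P := (hW.primeIdealOf ⟨η, hηW⟩).asIdeal
  let D := Γ(X, W) ⧸ P
  letI := (secStr f W).toAlgebra
  haveI : Algebra.FiniteType k Γ(X, W) := finiteType_secStr f hW
  haveI : Algebra.FiniteType k D := .trans (R := k) (S := Γ(X, W)) inferInstance inferInstance
  haveI : IsNoetherianRing D := Algebra.FiniteType.isNoetherianRing k D
  let g : Γ(X, W) := (X.presheaf.map (homOfLE (le_top : W ≤ ⊤)).op).hom s
  let Q := (hW.primeIdealOf ⟨z, hzW⟩).asIdeal
  have hPQ : P ≤ Q := by
    refine (PrimeSpectrum.le_iff_specializes _ _).mpr ?_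
    refine hW.fromSpec.isOpenEmbedding.isInducing.specializes_iff.mp ?_
    rw [hW.fromSpec_primeIdealOf, hW.fromSpec_primeIdealOf]
    exact hηz
  have hgQ : g ∈ Q := by
    rw [Scheme.mem_zeroLocus_iff] at hzY
    by_contra hg
    refine hzY s rfl ?_
    have h : hW.primeIdealOf ⟨z, hzW⟩ ∈ hW.fromSpec ⁻¹ᵁ X.basicOpen g := by
      rw [hW.fromSpec_preimage_basicOpen]; exact hg
    have h2 : z ∈ X.basicOpen g := by
      have h1 : hW.fromSpec (hW.primeIdealOf ⟨z, hzW⟩) ∈ X.basicOpen g := h
      rwa [hW.fromSpec_primeIdealOf] at h1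
    rw [show X.basicOpen g = W ⊓ X.basicOpen s from X.basicOpen_res s _] at h2
    exact h2.2
  let e := Ideal.Quotient.mk P
  have hker : RingHom.ker e ≤ Q := by rw [Ideal.mk_ker]; exact hPQ
  haveI : (Q.map e).IsPrime := Ideal.map_isPrime_of_surjective Ideal.Quotient.mk_surjective hker
  obtain ⟨R, hR, -⟩ := Ideal.exists_minimalPrimes_le
    (show Ideal.span {e g} ≤ Q.map e from (Ideal.span_singleton_le_iff_mem _).mpr (Ideal.mem_map_of_mem e hgQ))
  haveI := hR.1.1
  have hht : R.height ≤ 1 := by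
    refine (Ideal.height_le_spanRank_toENat_of_mem_minimalPrimes _ _ hR).trans ?_
    exact le_trans (OrderHomClass.mono Cardinal.toENat (Submodule.spanRank_span_le_card _)) (by simp)
  obtain ⟨h, t, S, hh, ht, hS, hsum⟩ := DimFormula.exists_height_add_trdeg k R
  obtain ⟨t', ht', hdim'⟩ := DimFormula.exists_trdeg_eq_ringKrullDim k (D ⧸ R)
  obtain ⟨S', hS', hdimS⟩ := DimFormula.exists_trdeg_eq_ringKrullDim k D
  have h1 : t' = t := by exact_mod_cast ht'.symm.trans ht
  have h2 : S' = S := by exact_mod_cast hS'.symm.trans hS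
  have h3 : S' = n := by exact_mod_cast hdimS.symm.trans hdimD
  rw [hh] at hht
  have h4 : h ≤ 1 := by exact_mod_cast hht
  have h5 : n ≤ t' + 1 := by omega
  obtain ⟨l, hl⟩ := Order.le_krullDim_iff.mp
    (show ((t' : ℕ) : WithBot ℕ∞) ≤ Order.krullDim (PrimeSpectrum (D ⧸ R)) from hdim'.ge)
  let G : PrimeSpectrum (D ⧸ R) → PrimeSpectrum Γ(X, W) := fun q =>
    PrimeSpectrum.comap ((Ideal.Quotient.mk R).comp e) q
  have hGinj : Function.Injective G := PrimeSpectrum.comap_injective_of_surjective _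
    (Ideal.Quotient.mk_surjective.comp Ideal.Quotient.mk_surjective)
  have hcl : IsClosed (X.zeroLocus (U := ⊤) {s}) := X.zeroLocus_isClosed _
  let Y := X.zeroLocus (U := ⊤) {s}
  have hGY : ∀ q, hW.fromSpec (G q) ∈ Y := by
    intro q
    rw [Scheme.mem_zeroLocus_iff]
    rintro s' (rfl : s' = s) hmem
    have hgq : g ∈ (G q).asIdeal := by
      show (Ideal.Quotient.mk R) (e g) ∈ q.asIdeal
      rw [Ideal.Quotient.eq_zero_iff_mem.mpr (hR.1.2 (Ideal.mem_span_singleton_self _))]
      exact zero_mem _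
    have hq : hW.fromSpec (G q) ∈ W := by
      rw [← SetLike.mem_coe, ← hW.range_fromSpec]; exact ⟨_, rfl⟩
    have h : hW.fromSpec (G q) ∈ X.basicOpen g := by
      rw [show X.basicOpen g = W ⊓ X.basicOpen s' from X.basicOpen_res s' _]
      exact ⟨hq, hmem⟩
    have h' : G q ∈ hW.fromSpec ⁻¹ᵁ X.basicOpen g := h
    rw [hW.fromSpec_preimage_basicOpen] at h'
    exact h' hgq
  haveI : QuasiSober Y := hcl.isClosedEmbedding_subtypeVal.quasiSober
  letI := specializationOrder Y
  letI : Preorder Y := (specializationOrder Y).toPreorder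
  letI : LE Y := (specializationOrder Y).toLE
  letI : LT Y := (specializationOrder Y).toLT
  let φ : PrimeSpectrum (D ⧸ R) → Y := fun q => ⟨hW.fromSpec (G q), hGY q⟩
  have hφ : ∀ {a b : PrimeSpectrum (D ⧸ R)}, a < b → φ b < φ a := by
    intro a b hab
    have hle : (φ a : Y) ⤳ φ b := by
      rw [subtype_specializes_iff]
      exact ((PrimeSpectrum.le_iff_specializes _ _).mp (Ideal.comap_mono hab.le)).map hW.fromSpec.continuous
    refine (@lt_iff_le_not_ge Y (specializationOrder Y).toPreorder (φ b) (φ a)).mpr ⟨hle, fun hge => hab.ne ?_⟩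
    have e : hW.fromSpec (G a) = hW.fromSpec (G b) :=
      congrArg (fun y : Y => (y : X)) (Specializes.antisymm hle hge).eq
    exact hGinj (hW.fromSpec.isOpenEmbedding.injective e)
  let m : LTSeries Y := ⟨l.length, fun i => φ (l i.rev),
    fun i => hφ (l.strictMono (Fin.rev_lt_rev.mpr i.castSucc_lt_succ))⟩
  have hm := Order.LTSeries.length_le_krullDim m
  replace hm := hm.trans_eq (topologicalKrullDim_eq ↥Y).symm
  rw [hnX]
  refine le_trans ?_ (add_le_add hm le_rfl)
  show (n : WithBot ℕ∞) ≤ ((l.length : ℕ) : WithBot ℕ∞) + 1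
  rw [hl]
  exact_mod_cast h5

end Groth.Agent.DimZeroLocus
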